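import Cfsg.Agent.Lib.CosetEnum.Defs

/-! Generated certificate. -/

set_option autoImplicit false
set_option maxRecDepth 20000

namespace Cfsg.Lib.Extra.SuzUnique.CodeData

open Cfsg.Lib.CosetEnum

/-- Table data. -/
def orb0_0_0 : Tab :=
  (.leaf 0x780000c00000300000790000b80000300000710000b80000100000700000b80000000000400000a80000500000690000a80000400000410000a00000500000680000a000004000002300009c00004000002500009800004000002200009400004000002100009400000000002400009000004000002000009000001000004200007800004000004400007400004000004300006400004000004500006000004000007300005c00005000007200005c00003000007400005800005000007500005800003000000e00005400003000006b00005400001000006d00005400000000007a00005000001000007d00005000000000000f00004000003000006a00004000001000006c00004000000000007b00003800001000007c00003800000000001600003000004000001e00002c00004000003f00002800003000003700002800000000003600002400005000001700002400004000003e00002000005000001f00002000004000002e00001c00004000005f00001c00003000005600001c00000000002f00001000004000005e00001000003000005700001000000000004f00000c00004000000500000c00000000000200000800002000004e00000400004000006700000400002000000300000400001000006600000000000000000400000000000)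

/-- Table data. -/
def orb0_0 : Tab :=
  orb0_0_0

end Cfsg.Lib.Extra.SuzUnique.CodeData
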