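import Cfsg.Agent.Lib.CosetEnum.Defs

/-! Generated certificate. -/

set_option autoImplicit false
set_option maxRecDepth 20000

namespace Cfsg.Lib.Extra.SuzUnique.CodeData

open Cfsg.Lib.CosetEnum

/-- Table data. -/
def orb1_0_0 : Tab :=
  (.leaf 0x2200007400003000002300007000003000004300006000003000004200005400003000007200005000004000007300005000002000000f00004c00002000006a00004c00000000007b00004800000000000e00003800002000006b00003800000000007a00003000000000001700002800003000001f00002400003000003e00002000002000003600002000000000003700001c00004000001600001c00003000003f00001800004000001e00001800003000002f00001400003000005e00001400002000005700001400000000002e00001000003000005f00001000002000005600001000000000004e00000c00003000004f00000400003000006600000400001000000300000000001000006700000000000000000200000000000)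

/-- Table data. -/
def orb1_0 : Tab :=
  orb1_0_0

end Cfsg.Lib.Extra.SuzUnique.CodeData
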