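import Cfsg.Agent.Lib.CosetEnum.Defs

/-! Generated certificate. -/

set_option autoImplicit false
set_option maxRecDepth 20000

namespace Cfsg.Lib.Extra.SuzUnique.CodeData

open Cfsg.Lib.CosetEnum

/-- Table data. -/
def orb2_0_0 : Tab :=
  (.leaf 0x6000003800002000004800002c00000000005900002400005000002900001c00003000004900001c00002000006100001c00001000000900001800000000003800001400004000005100001400002000003000000c00004000005800000c00002000005000000c00001000002800000c00000000001100000800003000003900000800001000001800000400003000003100000400001000001000000400000000001900000000000000000800000000000)

/-- Table data. -/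
def orb2_0 : Tab :=
  orb2_0_0

end Cfsg.Lib.Extra.SuzUnique.CodeData
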