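import Cfsg.Agent.Lib.CosetEnum.Defs

/-! Generated certificate. -/

set_option autoImplicit false
set_option maxRecDepth 20000

namespace Cfsg.Lib.Extra.SuzUnique.CodeData

open Cfsg.Lib.CosetEnum

/-- Table data. -/
def orb3_0_0 : Tab :=
  (.leaf 0x3100001c00003000005000001400004000005900001000004000001900000800002000003000000800000000003800000400003000005100000400001000005800000400000000001100000000002000001800000000001000003900000000000000001000000000000)

/-- Table data. -/
def orb3_0 : Tab :=
  orb3_0_0

end Cfsg.Lib.Extra.SuzUnique.CodeData
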