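import Cfsg.Agent.Lib.CosetEnum.Defs

/-! Generated certificate. -/

set_option autoImplicit false
set_option maxRecDepth 20000

namespace Cfsg.Lib.Extra.SuzUnique.CodeData

open Cfsg.Lib.CosetEnum

/-- Table data. -/
def pos1_0_0 : Tab :=
  (.node 1 (.leaf 0xd00000000000000001100000000000000002000000000000000002000000000000000002000000000000000002000000000000000002000000000000000002000000000000000000f00000000000000001000000000000000002000000000000000002000000000000000002000000000000000002000000000000000002000000000000000002000000000000000000b00000000000000000800000000000000002000000000000000002000000000000000002000000000000000002000000000000000002000000000000000002000000000000000002000000000000000002000000000000000002000000000000000002000000000000000001e00000000000000001f00000000000000002000000000000000002000000000000000001200000000000000000c00000000000000002000000000000000002000000000000000002000000000000000002000000000000000002000000000000000002000000000000000001300000000000000000e000000000000000020000000000000000020000000000000000020000000000000000020000000000000000020000000000000000020000000000000000019000000000000000016000000000000000020000000000000000020000000000000000020000000000000000020000000000000000020000000000000000020000000000000000020000000000000000020000000000000000020000000000000000020000000000000000002000000000000000000000000000000000020000000000000000020) (.leaf 0x20000000000000000020000000000000000020000000000000000020000000000000000017000000000000000014000000000000000020000000000000000020000000000000000020000000000000000020000000000000000020000000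00000000002000000000000000001a00000000000000001b00000000000000002000000000000000002000000000000000002000000000000000002000000000000000002000000000000000002000000000000000001500000000000000001800000000000000002000000000000000002000000000000000000100000000000000000300000000000000002000000000000000002000000000000000002000000000000000002000000000000000002000000000000000002000000000000000000700000000000000000a00000000000000002000000000000000002000000000000000002000000000000000002000000000000000002000000000000000002000000000000000000900000000000000000600000000000000002000000000000000002000000000000000002000000000000000002000000000000000002000000000000000002000000000000000000400000000000000000500000000000000002000000000000000002000000000000000002000000000000000002000000000000000002000000000000000002000000000000000002000000000000000002000000000000000002000000000000000002000000000000000001d00000000000000001c000000000000000020000000000000000020))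

/-- Table data. -/
def pos1_0 : Tab :=
  pos1_0_0

end Cfsg.Lib.Extra.SuzUnique.CodeData
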