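import Cfsg.Agent.Lib.CosetEnum.Defs

/-! Generated certificate. -/

set_option autoImplicit false
set_option maxRecDepth 20000

namespace Cfsg.Lib.Extra.SuzUnique.CodeData

open Cfsg.Lib.CosetEnum

/-- Table data. -/
def pos4_0_0 : Tab :=
  (.node 1 (.leaf 0x2000000000000000002000000000000000002000000000000000002000000000000000002000000000000000002000000000000000002000000000000000002000000000000000002000000000000000002000000000000000002000000000000000002000000000000000002000000000000000002000000000000000002000000000000000002000000000000000002000000000000000002000000000000000002000000000000000002000000000000000002000000000000000002000000000000000002000000000000000002000000000000000002000000000000000002000000000000000002000000000000000002000000000000000002000000000000000002000000000000000001000000000000000000000000000000000002000000000000000002000000000000000002000000000000000002000000000000000002000000000000000002000000000000000002000000000000000002000000000000000002000000000000000002000000000000000002000000000000000002000000000000000002000000000000000002000000000000000002000000000000000002000000000000000002000000000000000002000000000000000002000000000000000002000000000000000002000000000000000002000000000000000002000000000000000002000000000000000002000000000000000002000000000000000002000000000000000002000000000000000002000000000000000002000000000000000002000000000000000002) (.leaf 0x20000000000000000020000000000000000020000000000000000020000000000000000020000000000000000020000000000000000020000000000000000020000000000000000020000000000000000020000000000000000020000000000000000020000000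00000000002000000000000000002000000000000000002000000000000000002000000000000000002000000000000000002000000000000000002000000000000000002000000000000000002000000000000000002000000000000000002000000000000000002000000000000000002000000000000000002000000000000000002000000000000000002000000000000000002000000000000000002000000000000000002000000000000000002000000000000000002000000000000000002000000000000000002000000000000000002000000000000000002000000000000000002000000000000000002000000000000000002000000000000000002000000000000000002000000000000000002000000000000000002000000000000000002000000000000000002000000000000000002000000000000000002000000000000000002000000000000000002000000000000000002000000000000000002000000000000000002000000000000000002000000000000000002000000000000000002000000000000000002000000000000000002000000000000000002000000000000000002000000000000000002000000000000000002000000000000000002000000000000000002))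

/-- Table data. -/
def pos4_0 : Tab :=
  pos4_0_0

end Cfsg.Lib.Extra.SuzUnique.CodeData
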