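import Cfsg.Agent.Lib.Extra.SuzUnique.CodeData.TabT0
import Cfsg.Agent.Lib.Extra.SuzUnique.CodeData.Orb00
import Cfsg.Agent.Lib.Extra.SuzUnique.CodeData.Pos00
import Cfsg.Agent.Lib.Extra.SuzUnique.CodeData.Orb10
import Cfsg.Agent.Lib.Extra.SuzUnique.CodeData.Pos10
import Cfsg.Agent.Lib.Extra.SuzUnique.CodeData.Orb20
import Cfsg.Agent.Lib.Extra.SuzUnique.CodeData.Pos20
import Cfsg.Agent.Lib.Extra.SuzUnique.CodeData.Orb30
import Cfsg.Agent.Lib.Extra.SuzUnique.CodeData.Pos30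
import Cfsg.Agent.Lib.Extra.SuzUnique.CodeData.Orb40
import Cfsg.Agent.Lib.Extra.SuzUnique.CodeData.Pos40
import Cfsg.Agent.Lib.Extra.SuzUnique.CodeData.Orb50
import Cfsg.Agent.Lib.Extra.SuzUnique.CodeData.Pos50

/-! Generated certificate. -/

set_option autoImplicit false
set_option maxRecDepth 20000

namespace Cfsg.Lib.Extra.SuzUnique.CodeData

open Cfsg.Lib.CosetEnum

/-- Table. -/
def tabT : Tab :=
  tabT_0

/-- Table. -/
def orb0 : Tab :=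
  orb0_0

/-- Table. -/
def pos0 : Tab :=
  pos0_0

/-- A level of the base. -/
def level0 : BaseLevel :=
  ⟨orb0, pos0, 54,
    [[0], [2, 8, 2], [9], [0, 1, 3], [0, 2, 0, 1, 2, 0, 3], [0, 5, 6, 0, 6, 1], [7], [0, 2, 7, 2, 0], [2, 5, 2]]⟩

/-- Table. -/
def orb1 : Tab :=
  orb1_0

/-- Table. -/
def pos1 : Tab :=
  pos1_0

/-- A level of the base. -/
def level1 : BaseLevel :=
  ⟨orb1, pos1, 32,
    [[2, 8, 2], [9], [0, 1, 3], [0, 2, 0, 1, 2, 0, 3], [0, 5, 6, 0, 6, 1], [7], [0, 2, 7, 2, 0], [2, 5, 2]]⟩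

/-- Table. -/
def orb2 : Tab :=
  orb2_0

/-- Table. -/
def pos2 : Tab :=
  pos2_0

/-- A level of the base. -/
def level2 : BaseLevel :=
  ⟨orb2, pos2, 20,
    [[0, 1, 3], [0, 2, 0, 1, 2, 0, 3], [0, 5, 6, 0, 6, 1], [7], [0, 2, 7, 2, 0], [2, 5, 2]]⟩

/-- Table. -/
def orb3 : Tab :=
  orb3_0

/-- Table. -/
def pos3 : Tab :=
  pos3_0

/-- A level of the base. -/
def level3 : BaseLevel :=
  ⟨orb3, pos3, 12,
    [[0, 2, 0, 1, 2, 0, 3], [0, 5, 6, 0, 6, 1], [7], [0, 2, 7, 2, 0], [2, 5, 2]]⟩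

/-- Table. -/
def orb4 : Tab :=
  orb4_0

/-- Table. -/
def pos4 : Tab :=
  pos4_0

/-- A level of the base. -/
def level4 : BaseLevel :=
  ⟨orb4, pos4, 2,
    [[0, 2, 7, 2, 0], [2, 5, 2]]⟩

/-- Table. -/
def orb5 : Tab :=
  orb5_0

/-- Table. -/
def pos5 : Tab :=
  pos5_0

/-- A level of the base. -/
def level5 : BaseLevel :=
  ⟨orb5, pos5, 2,
    [[2, 5, 2]]⟩

/-- The base. -/
def levels : List BaseLevel :=
  [level0, level1, level2, level3, level4, level5]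

end Cfsg.Lib.Extra.SuzUnique.CodeData
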