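import Cfsg.Agent.Lib.CosetEnum.Defs

/-! Generated certificate. -/

set_option autoImplicit false
set_option maxRecDepth 20000

namespace Cfsg.Lib.Extra.SuzUnique.CodeData

open Cfsg.Lib.CosetEnum

/-- Table data. -/
def pos3_0_0 : Tab :=
  (.node 1 (.leaf 0xc00000000000000000c00000000000000000c00000000000000000c00000000000000000c00000000000000000c00000000000000000100000000000000000600000000000000000c00000000000000000c00000000000000000c00000000000000000c00000000000000000c00000000000000000c00000000000000000b00000000000000000700000000000000000c00000000000000000c00000000000000000c00000000000000000c00000000000000000c00000000000000000c00000000000000000c00000000000000000c00000000000000000c00000000000000000c00000000000000000c00000000000000000c00000000000000000c00000000000000000c00000000000000000c00000000000000000c00000000000000000c00000000000000000c00000000000000000c00000000000000000c00000000000000000c00000000000000000c00000000000000000800000000000000000200000000000000000c00000000000000000c00000000000000000c00000000000000000c00000000000000000c00000000000000000c00000000000000000300000000000000000000000000000000000c00000000000000000c00000000000000000c00000000000000000c00000000000000000c00000000000000000c00000000000000000c00000000000000000c00000000000000000c00000000000000000c00000000000000000c00000000000000000c00000000000000000c00000000000000000c00000000000000000c00000000000000000c) (.leaf 0xc00000000000000000c0000000000000000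0c00000000000000000c00000000000000000c00000000000000000c00000000000000000c00000000000000000c00000000000000000c00000000000000000c00000000000000000c00000000000000000c00000000000000000c00000000000000000c00000000000000000c00000000000000000c00000000000000000c00000000000000000c00000000000000000c00000000000000000c00000000000000000c00000000000000000c00000000000000000c00000000000000000c00000000000000000c00000000000000000c00000000000000000c00000000000000000c00000000000000000c00000000000000000c00000000000000000c00000000000000000c00000000000000000c00000000000000000c00000000000000000c00000000000000000c00000000000000000c00000000000000000c00000000000000000900000000000000000400000000000000000c00000000000000000c00000000000000000c00000000000000000c00000000000000000c00000000000000000c00000000000000000500000000000000000a00000000000000000c00000000000000000c00000000000000000c00000000000000000c00000000000000000c00000000000000000c00000000000000000c00000000000000000c00000000000000000c00000000000000000c00000000000000000c00000000000000000c00000000000000000c00000000000000000c00000000000000000c00000000000000000c))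

/-- Table data. -/
def pos3_0 : Tab :=
  pos3_0_0

end Cfsg.Lib.Extra.SuzUnique.CodeData
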